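import Mathlib
import Cfsg.Prelude.Def_Blocks
import Cfsg.Agent.Characters.Core
import Cfsg.Agent.Characters.GaloisBasic
import Cfsg.Agent.Characters.GaloisIrr
import Cfsg.Agent.Blocks.Basic
import Cfsg.Agent.Blocks.LocalRing
import Cfsg.Agent.Blocks.Osima
import Cfsg.Agent.Blocks.GaloisConj
set_option linter.all false

/-!
# The lattice lemma

Let `B` be a set of irreducible characters stable under the power maps `χ ↦ (g ↦ χ (g ^ m))`, `m` prime to the
group order, whose idempotent has `M`-integral coefficients (`Good`), for instance the principal `p`-block.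

* `theta_dvd` : `∑_{χ ∈ B} χ(1) χ(g)` is a rational integer divisible by `|G|_p`.
* `exists_F` : if `c : Irr(G) → ℤ` is invariant under the power maps and `c χ ≡ m χ(1)` modulo `Q ∣ |G|_p` on
  `B`, then `∑_{χ ∈ B} c(χ) χ(g) = Q F(g)` for an integer valued function `F`.
* `sum_F`, `sum_F_mul` : the scalar products of such functions.
* `lattice` : `∑_{χ ∈ B} c(χ)² ≥ Q |c(1)|`; `lattice_eq` : in case of equality `F(g) ∈ {0, ±1}` of constant sign.
-/

set_option autoImplicit false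
set_option linter.unusedSectionVars false

open Cfsg
open scoped ComplexConjugate

namespace Cfsg.Agent.H703.Lat

open Cfsg.Agent.Characters.Core Cfsg.Agent.Blocks Cfsg.Agent.Blocks.Basic Cfsg.Agent.Blocks.LocalRing

universe u

variable {G : Type u} [Group G] [Finite G]

/-- The Galois conjugate of an irreducible character. -/
def powIrr {m : ℕ} (hm : m.Coprime (Nat.card G)) (χ : IrrCharacter G) : IrrCharacter G :=
  ⟨fun g => (χ : G → ℂ) (g ^ m), Cfsg.Agent.Characters.GaloisIrr.isIrr_pow hm χ.2⟩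

theorem powIrr_apply {m : ℕ} (hm : m.Coprime (Nat.card G)) (χ : IrrCharacter G) (g : G) :
    (powIrr hm χ : G → ℂ) g = (χ : G → ℂ) (g ^ m) := rfl

theorem powIrr_injective {m : ℕ} (hm : m.Coprime (Nat.card G)) :
    Function.Injective (powIrr hm : IrrCharacter G → IrrCharacter G) := by
  intro χ ψ h
  refine Subtype.ext (funext fun g => ?_)
  obtain ⟨x, rfl⟩ := (powCoprime hm.symm).surjective g
  exact congrFun (congrArg Subtype.val h) x

theorem charDegree_powIrr {m : ℕ} (hm : m.Coprime (Nat.card G)) (χ : IrrCharacter G) :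
    charDegree (powIrr hm χ : G → ℂ) = charDegree (χ : G → ℂ) := by
  unfold charDegree
  rw [powIrr_apply, one_pow]

/-- stability under the power maps and integrality of the idempotent -/
structure Good (M : Ideal AlgInt) (B : Finset (IrrCharacter G)) : Prop where
  pow : ∀ {m : ℕ} (hm : m.Coprime (Nat.card G)) {χ : IrrCharacter G}, χ ∈ B → powIrr hm χ ∈ B
  loc : ∀ g : G, MemLocalRing M ((Nat.card G : ℂ)⁻¹ * ∑ χ ∈ B, (charDegree (χ : G → ℂ) : ℂ) * (χ : G → ℂ) g)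

/-- The principal block as a finset. -/
noncomputable def B0 (M : Ideal AlgInt) (G : Type u) [Group G] [Finite G] : Finset (IrrCharacter G) :=
  haveI := finite_irr (G := G)
  (Set.toFinite (principalBlock M G)).toFinset

theorem mem_B0 {M : Ideal AlgInt} {χ : IrrCharacter G} : χ ∈ B0 M G ↔ χ ∈ principalBlock M G := by
  rw [B0, Set.Finite.mem_toFinset]

theorem isPBlock_principal {M : Ideal AlgInt} : IsPBlock M (principalBlock M G) :=
  ⟨⟨fun _ => 1, isIrrCharacter_one⟩, rfl⟩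

/-- The idempotent of a block (or a union of blocks) in terms of a finset. -/
theorem blockCoeff_inv {B : Finset (IrrCharacter G)} (A : Set (IrrCharacter G)) (hA : ∀ χ, χ ∈ B ↔ χ ∈ A) (g : G) :
    blockCoeff A g⁻¹ = (Nat.card G : ℂ)⁻¹ * ∑ χ ∈ B, (charDegree (χ : G → ℂ) : ℂ) * (χ : G → ℂ) g := by
  rw [Basic.blockCoeff_def, finsum_mem_eq_finite_toFinset_sum _ (Set.Finite.subset B.finite_toSet
    (fun χ h => (hA χ).2 h))]
  congr 1
  refine Finset.sum_congr ?_ fun χ _ => ?_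
  · ext χ
    rw [Set.Finite.mem_toFinset, hA]
  · rw [← isCharacter_apply_inv (isIrr_isCharacter χ.2), inv_inv, irr_one_eq_charDegree χ.2]

theorem good_principal {p : ℕ} {M : Ideal AlgInt} (hM : IsPModular p M) : Good M (B0 M G) where
  pow {m} hm {χ} hχ := by
    rw [mem_B0] at hχ ⊢
    intro g
    have h1 := hχ (g ^ m)
    have h2 : Subgroup.centralizer ({g ^ m} : Set G) = Subgroup.centralizer ({g} : Set G) :=
      Cfsg.Agent.Blocks.GaloisConj.centralizer_pow_eq (n := Nat.card G) pow_card_eq_one' hm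
    simp only [centralChar, powIrr, one_pow] at h1 ⊢
    rw [h2] at h1
    exact h1
  loc g := by
    rw [← blockCoeff_inv (principalBlock M G) (fun _ => mem_B0) g]
    exact Osima.memLocalRing_blockCoeff hM isPBlock_principal _

variable {M : Ideal AlgInt} {B : Finset (IrrCharacter G)}

/-- The sum over `B` of a function is invariant under the power maps. -/
theorem sum_powIrr {A : Type*} [AddCommMonoid A] (hB : Good M B) {m : ℕ} (hm : m.Coprime (Nat.card G))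
    (f : IrrCharacter G → A) : ∑ χ ∈ B, f (powIrr hm χ) = ∑ χ ∈ B, f χ := by
  classical
  have h1 : B.image (powIrr hm) = B := by
    refine Finset.eq_of_subset_of_card_le ?_ ?_
    · intro χ hχ
      obtain ⟨ψ, hψ, rfl⟩ := Finset.mem_image.1 hχ
      exact hB.pow hm hψ
    · rw [Finset.card_image_of_injective _ (powIrr_injective hm)]
  conv_rhs => rw [← h1, Finset.sum_image fun x _ y _ h => powIrr_injective hm h]

/-- Invariance of a function on `Irr(G)` under the power maps. -/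
def Inv {A : Type*} (c : IrrCharacter G → A) : Prop :=
  ∀ (m : ℕ) (hm : m.Coprime (Nat.card G)) (χ : IrrCharacter G), c (powIrr hm χ) = c χ

theorem inv_deg {A : Type*} (f : ℕ → A) : Inv fun χ : IrrCharacter G => f (charDegree (χ : G → ℂ)) :=
  fun _ hm χ => by
    show f (charDegree (powIrr hm χ : G → ℂ)) = f (charDegree (χ : G → ℂ))
    rw [charDegree_powIrr]

theorem exists_int_nat (hB : Good M B) {c : IrrCharacter G → ℕ} (hc : Inv c) (g : G) :
    ∃ n : ℤ, ∑ χ ∈ B, (c χ : ℂ) * (χ : G → ℂ) g = n := by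
  have hchar : IsCharacter G (fun g => ∑ χ ∈ B, (c χ : ℂ) * (χ : G → ℂ) g) := by
    have h1 := isCharacter_sum B (f := fun χ : IrrCharacter G => c χ • (χ : G → ℂ)) fun χ _ =>
      isCharacter_nsmul _ (isIrr_isCharacter χ.2)
    have h2 : (∑ χ ∈ B, c χ • (χ : G → ℂ)) = fun g => ∑ χ ∈ B, (c χ : ℂ) * (χ : G → ℂ) g := by
      funext g
      rw [Finset.sum_apply]
      refine Finset.sum_congr rfl fun χ _ => ?_
      rw [Pi.smul_apply, nsmul_eq_mul]
    rwa [h2] at h1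
  refine Characters.GaloisBasic.exists_int_of_rat hchar g
    ((Characters.GaloisBasic.exists_rat_iff hchar g).2 fun m hm => ?_)
  show ∑ χ ∈ B, (c χ : ℂ) * (χ : G → ℂ) (g ^ m) = ∑ χ ∈ B, (c χ : ℂ) * (χ : G → ℂ) g
  rw [← sum_powIrr hB hm fun χ => (c χ : ℂ) * (χ : G → ℂ) g]
  refine Finset.sum_congr rfl fun χ _ => ?_
  rw [hc m hm χ, powIrr_apply]

/-- An invariant integral combination of the members of `B` is integer valued. -/
theorem exists_int (hB : Good M B) {c : IrrCharacter G → ℤ} (hc : Inv c) (g : G) :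
    ∃ n : ℤ, ∑ χ ∈ B, (c χ : ℂ) * (χ : G → ℂ) g = n := by
  obtain ⟨a, ha⟩ := exists_int_nat hB (c := fun χ => (c χ).toNat) (fun m hm χ => congrArg Int.toNat (hc m hm χ)) g
  obtain ⟨b, hb⟩ := exists_int_nat hB (c := fun χ => (-c χ).toNat)
    (fun m hm χ => congrArg (fun z : ℤ => (-z).toNat) (hc m hm χ)) g
  refine ⟨a - b, ?_⟩
  rw [Int.cast_sub, ← ha, ← hb, ← Finset.sum_sub_distrib]
  refine Finset.sum_congr rfl fun χ _ => ?_
  rw [← sub_mul]
  congr 1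
  have h : (c χ : ℤ) = ((c χ).toNat : ℤ) - ((-c χ).toNat : ℤ) := by
    rcases le_total 0 (c χ) with h | h <;> simp [h]
  calc (c χ : ℂ) = ((((c χ).toNat : ℤ) - ((-c χ).toNat : ℤ) : ℤ) : ℂ) := by rw [← h]
    _ = _ := by push_cast; ring

/-- A rational number which is a local integer: `p ^ a ∣ n` if `n / |G|` is local and `p ^ a ∣ |G|`. -/
theorem dvd_of_local {p : ℕ} (hM : IsPModular p M) {N : ℕ} (hN : N ≠ 0) {n : ℤ}
    (h : MemLocalRing M ((N : ℂ)⁻¹ * (n : ℂ))) {a : ℕ} (ha : p ^ a ∣ N) : ((p ^ a : ℕ) : ℤ) ∣ n := by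
  have hp := hM.1
  induction a with
  | zero => simp
  | succ a ih =>
    obtain ⟨t, rfl⟩ := ih ((pow_dvd_pow p (Nat.le_succ a)).trans ha)
    obtain ⟨s, rfl⟩ := ha
    have hs : s ≠ 0 := fun h => hN (by rw [h, mul_zero])
    have hpC : (p : ℂ) ≠ 0 := Nat.cast_ne_zero.2 hp.ne_zero
    have hsC : (s : ℂ) ≠ 0 := Nat.cast_ne_zero.2 hs
    have h1 : (t : ℂ) = (((p ^ (a + 1) * s : ℕ) : ℂ)⁻¹ * ((((p ^ a : ℕ) : ℤ) * t : ℤ) : ℂ)) * ((s : ℂ) * p) := by
      push_cast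
      field_simp
      try ring
    have h2 : MemLocalIdeal M (t : ℂ) := by
      rw [h1]
      refine memLocalIdeal_mul_left hM h ?_
      exact memLocalIdeal_mul_left hM (memLocalRing_natCast hM s) (memLocalIdeal_prime hM)
    have h3 := (memLocalIdeal_intCast_iff hM t).1 h2
    obtain ⟨r, rfl⟩ := h3
    refine ⟨r, ?_⟩
    push_cast
    ring

/-- **Lattice lemma, first form.**  `∑_{χ ∈ B} χ(1) χ(g)` is a rational integer divisible by `|G|_p`. -/
theorem theta_dvd {p : ℕ} (hM : IsPModular p M) (hB : Good M B) {a : ℕ} (ha : p ^ a ∣ Nat.card G) (g : G) :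
    ∃ n : ℤ, ∑ χ ∈ B, (charDegree (χ : G → ℂ) : ℂ) * (χ : G → ℂ) g = ((p ^ a : ℕ) : ℂ) * n := by
  obtain ⟨n, hn⟩ := exists_int_nat hB (inv_deg (G := G) id) g
  simp only [id] at hn
  have h1 := hB.loc g
  rw [hn] at h1
  obtain ⟨m, rfl⟩ := dvd_of_local hM Nat.card_pos.ne' h1 ha
  refine ⟨m, ?_⟩
  rw [hn]
  push_cast
  ring

/-- **Lattice lemma.** -/
theorem exists_F {p : ℕ} (hM : IsPModular p M) (hB : Good M B) {a : ℕ} (ha : p ^ a ∣ Nat.card G)
    {c : IrrCharacter G → ℤ} (hc : Inv c) {m : ℤ}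
    (hcm : ∀ χ ∈ B, ((p ^ a : ℕ) : ℤ) ∣ c χ - m * charDegree (χ : G → ℂ)) :
    ∃ F : G → ℤ, ∀ g, ∑ χ ∈ B, (c χ : ℂ) * (χ : G → ℂ) g = ((p ^ a : ℕ) : ℂ) * F g := by
  have hQ : ((p ^ a : ℕ) : ℂ) ≠ 0 := Nat.cast_ne_zero.2 (pow_ne_zero _ hM.1.ne_zero)
  suffices h : ∀ g : G, ∃ n : ℤ, ∑ χ ∈ B, (c χ : ℂ) * (χ : G → ℂ) g = ((p ^ a : ℕ) : ℂ) * n by
    choose F hF using h
    exact ⟨F, hF⟩
  intro g
  obtain ⟨x, hx⟩ := exists_int hB hc g
  obtain ⟨t, ht⟩ := theta_dvd hM hB ha g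
  have h1 : ∀ χ : IrrCharacter G, ∃ s : ℤ, χ ∈ B → c χ = m * charDegree (χ : G → ℂ) + ((p ^ a : ℕ) : ℤ) * s := by
    intro χ
    by_cases h : χ ∈ B
    · obtain ⟨s, hs⟩ := hcm χ h
      exact ⟨s, fun _ => by rw [← hs]; ring⟩
    · exact ⟨0, fun h' => absurd h' h⟩
  choose s hs using h1
  have h2 : ∑ χ ∈ B, (c χ : ℂ) * (χ : G → ℂ) g =
      ((p ^ a : ℕ) : ℂ) * (m * t + ∑ χ ∈ B, (s χ : ℂ) * (χ : G → ℂ) g) := by
    rw [mul_add, show ((p ^ a : ℕ) : ℂ) * ((m : ℂ) * t) = m * (((p ^ a : ℕ) : ℂ) * t) by ring, ← ht,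
      Finset.mul_sum, Finset.mul_sum, ← Finset.sum_add_distrib]
    refine Finset.sum_congr rfl fun χ hχ => ?_
    rw [hs χ hχ]
    push_cast
    ring
  have h3 : IsIntegral ℤ ((m : ℂ) * t + ∑ χ ∈ B, (s χ : ℂ) * (χ : G → ℂ) g) := by
    refine IsIntegral.add ?_ (IsIntegral.sum _ fun χ _ => IsIntegral.mul ?_ ?_)
    · have := isIntegral_algebraMap (R := ℤ) (A := ℂ) (x := m * t)
      simpa using this
    · exact isIntegral_algebraMap (R := ℤ) (A := ℂ) (x := s χ)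
    · exact Characters.GaloisBasic.isIntegral_apply (isIrr_isCharacter χ.2) g
  obtain ⟨n, hn⟩ := Characters.GaloisBasic.exists_int_of_isIntegral h3 ⟨(x : ℚ) / ((p ^ a : ℕ) : ℚ), by
    have h4 : ((p ^ a : ℕ) : ℂ) * (m * t + ∑ χ ∈ B, (s χ : ℂ) * (χ : G → ℂ) g) = x := by
      rw [← h2, hx]
    push_cast at h4 hQ ⊢
    rw [eq_div_iff hQ, mul_comm]
    exact h4⟩
  exact ⟨n, by rw [h2, hn]⟩

section inner

variable [Fintype G]

theorem classInner_comb (c d : IrrCharacter G → ℂ) :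
    classInner (fun g => ∑ χ ∈ B, c χ * (χ : G → ℂ) g) (fun g => ∑ χ ∈ B, d χ * (χ : G → ℂ) g) =
      ∑ χ ∈ B, c χ * conj (d χ) := by
  classical
  have := finite_irr (G := G)
  have := Fintype.ofFinite (IrrCharacter G)
  have h1 : ∀ c : IrrCharacter G → ℂ, (fun g => ∑ χ ∈ B, c χ * (χ : G → ℂ) g) =
      ∑ χ : IrrCharacter G, (if χ ∈ B then c χ else 0) • (χ : G → ℂ) := by
    intro c
    funext g
    rw [Finset.sum_apply, ← Finset.sum_filter_add_sum_filter_not Finset.univ (fun χ => χ ∈ B)]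
    rw [Finset.filter_mem_eq_inter, Finset.univ_inter]
    have h2 : ∑ χ with χ ∉ B, ((if χ ∈ B then c χ else 0) • (χ : G → ℂ)) g = 0 := by
      refine Finset.sum_eq_zero fun χ hχ => ?_
      rw [if_neg (Finset.mem_filter.1 hχ).2, zero_smul, Pi.zero_apply]
    rw [h2, add_zero]
    refine Finset.sum_congr rfl fun χ hχ => ?_
    rw [if_pos hχ, Pi.smul_apply, smul_eq_mul]
  rw [h1 c, h1 d, classInner_sum_smul_sum_smul]
  rw [← Finset.sum_filter_add_sum_filter_not Finset.univ (fun χ => χ ∈ B), Finset.filter_mem_eq_inter,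
    Finset.univ_inter]
  have h2 : ∑ χ : IrrCharacter G with χ ∉ B, ((if χ ∈ B then c χ else 0) *
      (starRingEnd ℂ) (if χ ∈ B then d χ else 0)) = 0 := by
    refine Finset.sum_eq_zero fun χ hχ => ?_
    rw [if_neg (Finset.mem_filter.1 hχ).2, zero_mul]
  rw [h2, add_zero]
  refine Finset.sum_congr rfl fun χ hχ => ?_
  rw [if_pos hχ, if_pos hχ]

/-- scalar products of the functions `F` -/
theorem sum_F_mul {Q : ℕ} {c d : IrrCharacter G → ℤ} {F E : G → ℤ}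
    (hF : ∀ g, ∑ χ ∈ B, (c χ : ℂ) * (χ : G → ℂ) g = (Q : ℂ) * F g)
    (hE : ∀ g, ∑ χ ∈ B, (d χ : ℂ) * (χ : G → ℂ) g = (Q : ℂ) * E g) :
    (Q : ℤ) ^ 2 * ∑ g, F g * E g = Nat.card G * ∑ χ ∈ B, c χ * d χ := by
  have h1 := classInner_comb (B := B) (fun χ => (c χ : ℂ)) (fun χ => (d χ : ℂ))
  have h2 : classInner (fun g => ∑ χ ∈ B, (c χ : ℂ) * (χ : G → ℂ) g)
      (fun g => ∑ χ ∈ B, (d χ : ℂ) * (χ : G → ℂ) g) = (Nat.card G : ℂ)⁻¹ * ∑ g : G, ((Q : ℂ) * F g) *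
        conj ((Q : ℂ) * E g) := by
    rw [Cfsg.Agent.Characters.Core.classInner_def]
    congr 1
    refine Finset.sum_congr rfl fun g _ => ?_
    rw [hF, hE]
  rw [h2] at h1
  have hc : (Nat.card G : ℂ) ≠ 0 := card_ne_zero_complex
  have h3 : (Nat.card G : ℂ) * ∑ χ ∈ B, (c χ : ℂ) * (d χ : ℂ) = ∑ g : G, ((Q : ℂ) * F g) * ((Q : ℂ) * E g) := by
    have h4 : ∑ χ ∈ B, (c χ : ℂ) * (d χ : ℂ) = ∑ χ ∈ B, (c χ : ℂ) * conj (d χ : ℂ) :=
      Finset.sum_congr rfl fun χ _ => by rw [map_intCast]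
    rw [h4, ← h1, ← mul_assoc, mul_inv_cancel₀ hc, one_mul]
    refine Finset.sum_congr rfl fun g _ => ?_
    rw [map_mul, map_natCast, map_intCast]
  have h5 : (((Nat.card G * ∑ χ ∈ B, c χ * d χ : ℤ)) : ℂ) = (((Q : ℤ) ^ 2 * ∑ g, F g * E g : ℤ) : ℂ) := by
    push_cast
    rw [h3, Finset.mul_sum]
    refine Finset.sum_congr rfl fun g _ => ?_
    ring
  exact (Int.cast_injective h5).symm

/-- the sum of the values of `F` -/
theorem sum_F {Q : ℕ} (h1B : (⟨fun _ => 1, isIrrCharacter_one⟩ : IrrCharacter G) ∈ B) {c : IrrCharacter G → ℤ}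
    {F : G → ℤ} (hF : ∀ g, ∑ χ ∈ B, (c χ : ℂ) * (χ : G → ℂ) g = (Q : ℂ) * F g) :
    (Q : ℤ) * ∑ g, F g = Nat.card G * c ⟨fun _ => 1, isIrrCharacter_one⟩ := by
  classical
  set one : IrrCharacter G := ⟨fun _ => 1, isIrrCharacter_one⟩ with hone
  have h1 := classInner_comb (B := B) (fun χ => (c χ : ℂ)) (fun χ => if χ = one then (1 : ℂ) else 0)
  have h2 : (fun g : G => ∑ χ ∈ B, (if χ = one then (1 : ℂ) else 0) * (χ : G → ℂ) g) = fun _ => (1 : ℂ) := by
    funext g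
    rw [Finset.sum_eq_single_of_mem one h1B (fun χ _ h => by rw [if_neg h, zero_mul]), if_pos rfl, one_mul]
  rw [h2, Cfsg.Agent.Characters.Core.classInner_def] at h1
  have h3 : ∑ χ ∈ B, (c χ : ℂ) * conj (if χ = one then (1 : ℂ) else 0) = c one := by
    rw [Finset.sum_eq_single_of_mem one h1B (fun χ _ h => by rw [if_neg h, map_zero, mul_zero]), if_pos rfl,
      map_one, mul_one]
  rw [h3] at h1
  have hc : (Nat.card G : ℂ) ≠ 0 := card_ne_zero_complex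
  have h4 : ∑ g : G, (Q : ℂ) * F g = Nat.card G * c one := by
    rw [← h1, ← mul_assoc, mul_inv_cancel₀ hc, one_mul]
    refine Finset.sum_congr rfl fun g _ => ?_
    rw [hF, map_one, mul_one]
  have h5 : (((Q : ℤ) * ∑ g, F g : ℤ) : ℂ) = ((Nat.card G * c one : ℤ) : ℂ) := by
    push_cast
    rw [← h4, Finset.mul_sum]
  exact Int.cast_injective h5

end inner

theorem one_mem_B0 {p : ℕ} (hM : IsPModular p M) :
    (⟨fun _ => 1, isIrrCharacter_one⟩ : IrrCharacter G) ∈ B0 M G := by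
  have := isPrime hM
  rw [mem_B0]
  exact sameBlock_refl _

/-- **Lattice inequality.** -/
theorem lattice {Q : ℕ} (hQ : Q ≠ 0) (h1B : (⟨fun _ => 1, isIrrCharacter_one⟩ : IrrCharacter G) ∈ B)
    {c : IrrCharacter G → ℤ} {F : G → ℤ} (hF : ∀ g, ∑ χ ∈ B, (c χ : ℂ) * (χ : G → ℂ) g = (Q : ℂ) * F g) :
    (Q : ℤ) * |c ⟨fun _ => 1, isIrrCharacter_one⟩| ≤ ∑ χ ∈ B, c χ ^ 2 := by
  have := Fintype.ofFinite G
  have h1 := sum_F_mul hF hF
  have h2 := sum_F h1B hF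
  have hG : (0 : ℤ) < Nat.card G := by exact_mod_cast Nat.card_pos
  have hQ' : (0 : ℤ) < Q := by exact_mod_cast Nat.pos_of_ne_zero hQ
  set S := ∑ χ ∈ B, c χ ^ 2 with hS
  have hS' : ∑ χ ∈ B, c χ * c χ = S := Finset.sum_congr rfl fun χ _ => (sq (c χ)).symm
  rw [hS'] at h1
  set e := c ⟨fun _ => 1, isIrrCharacter_one⟩ with he
  have h3 : |∑ g, F g| ≤ ∑ g, F g * F g := by
    refine (Finset.abs_sum_le_sum_abs _ _).trans (Finset.sum_le_sum fun g _ => ?_)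
    rw [← abs_mul_abs_self]
    rcases eq_or_ne (F g) 0 with h | h
    · rw [h]; simp
    · exact le_mul_of_one_le_left (abs_nonneg _) (Int.one_le_abs h)
  have h4 : (Q : ℤ) * |∑ g, F g| = Nat.card G * |e| := by
    calc (Q : ℤ) * |∑ g, F g| = |(Q : ℤ)| * |∑ g, F g| := by rw [abs_of_pos hQ']
      _ = |(Nat.card G : ℤ)| * |e| := by rw [← abs_mul, h2, abs_mul]
      _ = Nat.card G * |e| := by rw [abs_of_pos hG]
  have h5 : (Nat.card G : ℤ) * ((Q : ℤ) * |e|) ≤ Nat.card G * S := by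
    calc (Nat.card G : ℤ) * ((Q : ℤ) * |e|) = Q * (Nat.card G * |e|) := by ring
      _ = Q ^ 2 * |∑ g, F g| := by rw [← h4]; ring
      _ ≤ Q ^ 2 * ∑ g, F g * F g := mul_le_mul_of_nonneg_left h3 (by positivity)
      _ = Nat.card G * S := h1
  exact le_of_mul_le_mul_left h5 hG

/-- **The case of equality**: `F g ^ 2 = F g` if `c(1) ≥ 0`. -/
theorem lattice_eq {Q : ℕ} (hQ : Q ≠ 0) (h1B : (⟨fun _ => 1, isIrrCharacter_one⟩ : IrrCharacter G) ∈ B)
    {c : IrrCharacter G → ℤ} {F : G → ℤ} (hF : ∀ g, ∑ χ ∈ B, (c χ : ℂ) * (χ : G → ℂ) g = (Q : ℂ) * F g)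
    (heq : ∑ χ ∈ B, c χ ^ 2 = (Q : ℤ) * c ⟨fun _ => 1, isIrrCharacter_one⟩) (g : G) : F g * F g = F g := by
  have := Fintype.ofFinite G
  have h1 := sum_F_mul hF hF
  have h2 := sum_F h1B hF
  have hG : (0 : ℤ) < Nat.card G := by exact_mod_cast Nat.card_pos
  have hQ' : (0 : ℤ) < Q := by exact_mod_cast Nat.pos_of_ne_zero hQ
  have hS' : ∑ χ ∈ B, c χ * c χ = ∑ χ ∈ B, c χ ^ 2 := Finset.sum_congr rfl fun χ _ => (sq (c χ)).symm
  rw [hS', heq] at h1
  set e := c ⟨fun _ => 1, isIrrCharacter_one⟩ with he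
  have h3 : (Q : ℤ) ^ 2 * ∑ g, F g * F g = Q ^ 2 * ∑ g, F g := by
    rw [h1, sq, mul_assoc, h2]; ring
  have h4 : ∑ g, F g * F g = ∑ g, F g := mul_left_cancel₀ (by positivity) h3
  have h5 : ∑ g, (F g * F g - F g) = 0 := by rw [Finset.sum_sub_distrib, h4, sub_self]
  have h6 := (Finset.sum_eq_zero_iff_of_nonneg (fun g _ => ?_)).1 h5 g (Finset.mem_univ g)
  · exact sub_eq_zero.1 h6
  · rcases le_or_gt (F g) 0 with h | h
    · nlinarith
    · nlinarith [Int.add_one_le_iff.2 h]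

/-- `F` is a class function. -/
theorem F_conj {Q : ℕ} (hQ : Q ≠ 0) {c : IrrCharacter G → ℤ} {F : G → ℤ}
    (hF : ∀ g, ∑ χ ∈ B, (c χ : ℂ) * (χ : G → ℂ) g = (Q : ℂ) * F g) (g h : G) : F (h * g * h⁻¹) = F g := by
  have hQ' : (Q : ℂ) ≠ 0 := Nat.cast_ne_zero.2 hQ
  have h1 : (Q : ℂ) * F (h * g * h⁻¹) = (Q : ℂ) * F g := by
    rw [← hF, ← hF]
    exact Finset.sum_congr rfl fun χ _ => by rw [irr_conj χ.2]
  exact_mod_cast mul_left_cancel₀ hQ' h1

/-- the value at `1` : `∑ c(χ) χ(1) = Q F(1)` -/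
theorem F_one {Q : ℕ} {c : IrrCharacter G → ℤ} {F : G → ℤ}
    (hF : ∀ g, ∑ χ ∈ B, (c χ : ℂ) * (χ : G → ℂ) g = (Q : ℂ) * F g) :
    ∑ χ ∈ B, c χ * charDegree (χ : G → ℂ) = Q * F 1 := by
  have h := hF 1
  have h1 : ((∑ χ ∈ B, c χ * charDegree (χ : G → ℂ) : ℤ) : ℂ) = ((Q * F 1 : ℤ) : ℂ) := by
    push_cast
    rw [← h]
    exact Finset.sum_congr rfl fun χ _ => by rw [irr_one_eq_charDegree χ.2]
  exact Int.cast_injective h1

/-- `|G|_p ∣ ∑_{χ ∈ B} χ(1)²` -/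
theorem dvd_sum_sq {p : ℕ} (hM : IsPModular p M) (hB : Good M B) {a : ℕ} (ha : p ^ a ∣ Nat.card G) :
    ((p ^ a : ℕ) : ℤ) ∣ ∑ χ ∈ B, (charDegree (χ : G → ℂ) : ℤ) ^ 2 := by
  obtain ⟨n, hn⟩ := theta_dvd hM hB ha (1 : G)
  refine ⟨n, ?_⟩
  have h1 : ((∑ χ ∈ B, (charDegree (χ : G → ℂ) : ℤ) ^ 2 : ℤ) : ℂ) = ((((p ^ a : ℕ) : ℤ) * n : ℤ) : ℂ) := by
    push_cast at hn ⊢
    rw [← hn]
    exact Finset.sum_congr rfl fun χ _ => by rw [irr_one_eq_charDegree χ.2, sq]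
  exact Int.cast_injective h1

end Cfsg.Agent.H703.Lat
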